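import Cfsg.Agent.Lib.SL2Solubilizer.Types

/-! Solubilizers of involutions and of elements of order three in `PSL₂(3^p)`, `p` odd. -/

set_option autoImplicit false

namespace Cfsg.Agent.Lib.SL2Solubilizer

open Cfsg.Agent.Lib.SL2 Cfsg.Agent.Lib.SL2.OddProductGraph

variable {F : Type*} [Field F] [Fintype F]

/-- Characteristic three with `-1` a non-square. -/
structure Hyp3 (F : Type*) [Field F] [Fintype F] : Prop where
  three : (3 : F) = 0
  nsq : ¬ IsSquare (-1 : F)

theorem Hyp3.two_ne (h : Hyp3 F) : (2 : F) ≠ 0 := fun e =>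
  one_ne_zero (α := F) (by linear_combination h.three - e)

theorem conj_cube {G : Type*} [Group G] (g c : G) :
    g ^ 3 * c * (g ^ 3)⁻¹ = g * (g * (g * c * g⁻¹) * g⁻¹) * g⁻¹ := by simp [pow_succ, mul_assoc]

theorem conj_sq {G : Type*} [Group G] (g c : G) :
    g ^ 2 * c * (g ^ 2)⁻¹ = g * (g * c * g⁻¹) * g⁻¹ := by simp [pow_succ, mul_assoc]

theorem conj_mul' {G : Type*} [Group G] (g k c : G) : g * k * c * (g * k)⁻¹ = g * (k * c * k⁻¹) * g⁻¹ := by
  simp [mul_assoc]

theorem mul_cube {G : Type*} [Group G] (x t : G) :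
    (x * t) ^ 3 = x ^ 3 * ((x⁻¹ * (x⁻¹ * t * x) * x) * (x⁻¹ * t * x) * t) := by simp [pow_succ, mul_assoc]

theorem rot_cube {G : Type*} [Group G] (x t : G) (n : ℕ) :
    (x ^ n * t * x) ^ 3 = x⁻¹ * (x ^ (n + 1) * t) ^ 3 * x := by
  rw [pow_succ' x n, show x ^ n * t * x = x⁻¹ * (x * x ^ n * t) * x by simp [mul_assoc]]
  simp [pow_succ, mul_assoc]

theorem no_four (h : Hyp3 F) {z : PSLtwo F} (hz : z ^ 4 = 1) : z * z = 1 := by
  by_cases h1 : z = 1
  · rw [h1, mul_one]
  obtain ⟨g, rfl⟩ := proj_surjective z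
  rcases (tr_of_pow h1).2.2.1 hz with e | e
  · exact sq_one_of_tr_zero e
  · exact absurd ⟨tr g, by linear_combination -e - h.three⟩ h.nsq

theorem pow_twelve_ne (h : Hyp3 F) [CharP F 3] {x : PSLtwo F} (hs : IsSemi x) (hx2 : x * x ≠ 1) : x ^ 12 ≠ 1 := by
  intro e
  haveI := Fact.mk Nat.prime_three
  have hd : orderOf x ∣ 4 * 3 := orderOf_dvd_of_pow_eq_one e
  exact hx2 (no_four h (orderOf_dvd_iff_pow_eq_one.1
    ((coprime_orderOf_of_semi 3 hs).dvd_of_dvd_mul_right hd)))

theorem cube_one_of_tr {g : SLtwo F} (hg : tr g * tr g = 1) : proj g ^ 3 = 1 := by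
  have hgg : ((g * g * g : SLtwo F) : Matrix (Fin 2) (Fin 2) F) = (-tr g) • 1 := by
    rw [Matrix.SpecialLinearGroup.coe_mul, Matrix.SpecialLinearGroup.coe_mul, cayley_hamilton g, sub_mul,
      smul_mul_assoc, one_mul, cayley_hamilton g, smul_sub, smul_smul, hg, one_smul, neg_smul]
    abel
  have hc : g * g * g ∈ Subgroup.center (SLtwo F) := by
    rw [mem_center_iff_entries]
    simp [hgg]
  rw [pow_succ, pow_two, ← map_mul, ← map_mul]
  exact proj_eq_one_iff.2 hc

theorem klein_comm {a b : PSLtwo F} {H : Subgroup (PSLtwo F)} (hP : Permutes H a b) {c d : PSLtwo F}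
    (hc : c = a ∨ c = b ∨ c = a * b) (hd : d = a ∨ d = b ∨ d = a * b) :
    c * d = d * c ∧ c * c = 1 ∧ c ≠ 1 := by
  obtain ⟨ha, hb, ha1, hb1, hab, hcm, -⟩ := hP
  have e1 : a * (a * b) = b := by rw [← mul_assoc, ha, one_mul]
  have e2 : a * b * a = b := by rw [hcm, mul_assoc, ha, mul_one]
  have e3 : b * (a * b) = a := by rw [hcm, ← mul_assoc, hb, one_mul]
  have e4 : a * b * b = a := by rw [mul_assoc, hb, mul_one]
  have e5 : a * b * (a * b) = 1 := by rw [← mul_assoc, e2, hb]
  have e6 : a * b ≠ 1 := fun e => hab (by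
    rw [eq_inv_of_mul_eq_one_left e, inv_eq_of_mul_eq_one_right hb])
  refine ⟨?_, ?_, ?_⟩
  · rcases hc with rfl | rfl | rfl <;> rcases hd with rfl | rfl | rfl <;>
      first | rfl | exact hcm | exact hcm.symm | rw [e1, e2] | rw [e3, e4]
  · rcases hc with rfl | rfl | rfl <;> assumption
  · rcases hc with rfl | rfl | rfl <;> assumption

theorem klein_third {a b c d e : PSLtwo F} {H : Subgroup (PSLtwo F)} (hP : Permutes H a b)
    (hc : c = a ∨ c = b ∨ c = a * b) (hd : d = a ∨ d = b ∨ d = a * b) (he : e = a ∨ e = b ∨ e = a * b)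
    (hcd : c ≠ d) (hde : d ≠ e) (hce : c ≠ e) : e * d * c = 1 := by
  obtain ⟨ha, hb, ha1, hb1, hab, hcm, -⟩ := hP
  have ha' : ∀ z, a * (a * z) = z := fun z => by rw [← mul_assoc, ha, one_mul]
  have hb' : ∀ z, b * (b * z) = z := fun z => by rw [← mul_assoc, hb, one_mul]
  have hba : ∀ z, b * (a * z) = a * (b * z) := fun z => by rw [← mul_assoc, ← hcm, mul_assoc]
  rcases hc with rfl | rfl | rfl <;> rcases hd with rfl | rfl | rfl <;> rcases he with rfl | rfl | rfl <;>
    first
      | exact absurd rfl hcd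
      | exact absurd rfl hde
      | exact absurd rfl hce
      | simp only [mul_assoc, ha, hb, ha', hb', hba, ← hcm, one_mul, mul_one]

theorem klein_mem_of_fix (h : Hyp3 F) {a b c d g : PSLtwo F} {H : Subgroup (PSLtwo F)} (hP : Permutes H a b)
    (hc : c = a ∨ c = b ∨ c = a * b) (hd : d = a ∨ d = b ∨ d = a * b) (hcd : c ≠ d)
    (hgc : g * c = c * g) (hgd : g * d = d * g) : g = 1 ∨ g = c ∨ g = d ∨ g = c * d :=
  mem_klein h.two_ne (klein_comm hP hc hc).2.1 (klein_comm hP hd hd).2.1 (klein_comm hP hc hc).2.2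
    (klein_comm hP hd hd).2.2 hcd (klein_comm hP hc hd).1 hgc hgd

theorem sq_of_klein (h : Hyp3 F) {a b c d g : PSLtwo F} {H : Subgroup (PSLtwo F)} (hP : Permutes H a b)
    (hc : c = a ∨ c = b ∨ c = a * b) (hd : d = a ∨ d = b ∨ d = a * b) (hcd : c ≠ d)
    (hgc : g * c = c * g) (hgd : g * d = d * g) : g * g = 1 := by
  obtain ⟨hcc, hdd⟩ := And.intro (klein_comm hP hc hc).2.1 (klein_comm hP hd hd).2.1
  rcases klein_mem_of_fix h hP hc hd hcd hgc hgd with e | e | e | e <;> rw [e]
  · exact mul_one 1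
  · exact hcc
  · exact hdd
  · rw [mul_assoc, ← mul_assoc d, ← (klein_comm hP hc hd).1, mul_assoc c d d, hdd, mul_one, hcc]

/-- The action of a non-centralizing element on three commuting involutions. -/
theorem klein_move (h : Hyp3 F) {a b x g : PSLtwo F} {H : Subgroup (PSLtwo F)} (hP : Permutes H a b)
    (hx : x = a ∨ x = b ∨ x = a * b) (hg : g ∈ H) (hne : g * x * g⁻¹ ≠ x) : g * g = 1 ∨ g ^ 3 = 1 := by
  have hperm := hP.2.2.2.2.2.2
  set y := g * x * g⁻¹ with hy
  have hy' : y = a ∨ y = b ∨ y = a * b := hperm g hg x hx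
  set z := g * y * g⁻¹ with hz
  have hz' : z = a ∨ z = b ∨ z = a * b := hperm g hg y hy'
  have hzy : z ≠ y := fun e => hne (mul_left_cancel (mul_right_cancel (e : g * y * g⁻¹ = g * x * g⁻¹)))
  have sqfix : ∀ c d, g * c * g⁻¹ = d → g * d * g⁻¹ = c → g * g * c = c * (g * g) := fun c d e1 e2 => by
    rw [← mul_inv_eq_iff_eq_mul, show g * g * c * (g * g)⁻¹ = g * (g * c * g⁻¹) * g⁻¹ by group, e1, e2]
  by_cases hzx : z = x
  · left
    refine no_four h ?_
    rw [show g ^ 4 = g * g * (g * g) by simp [pow_succ, mul_assoc]]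
    exact sq_of_klein h hP hx hy' (Ne.symm hne) (sqfix x y hy.symm (hz.symm.trans hzx))
      (sqfix y x (hz.symm.trans hzx) hy.symm)
  · right
    set w := g * z * g⁻¹ with hw
    have hw' : w = a ∨ w = b ∨ w = a * b := hperm g hg z hz'
    have hwz : w ≠ z := fun e => hzy (mul_left_cancel (mul_right_cancel (e : g * z * g⁻¹ = g * y * g⁻¹)))
    have hwy : w ≠ y := fun e => hzx (mul_left_cancel (mul_right_cancel (e : g * z * g⁻¹ = g * x * g⁻¹)))
    have hwx : w = x := by
      have e1 := klein_third hP hx hy' hz' (Ne.symm hne) hzy.symm (Ne.symm hzx)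
      have e2 := klein_third hP hw' hy' hz' hwy hzy.symm hwz
      exact (mul_left_cancel (e1.trans e2.symm)).symm
    have fix3 : ∀ c d e, g * c * g⁻¹ = d → g * d * g⁻¹ = e → g * e * g⁻¹ = c → g ^ 3 * c = c * g ^ 3 :=
      fun c d e e1 e2 e3 => by
        rw [← mul_inv_eq_iff_eq_mul,
          show g ^ 3 * c * (g ^ 3)⁻¹ = g * (g * (g * c * g⁻¹) * g⁻¹) * g⁻¹ by simp [pow_succ, mul_assoc], e1, e2, e3]
    have hcomm : g * g ^ 3 * g⁻¹ = g ^ 3 := by group
    rcases klein_mem_of_fix h hP hx hy' (Ne.symm hne) (fix3 x y z hy.symm hz.symm (hw.symm.trans hwx))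
      (fix3 y z x hz.symm (hw.symm.trans hwx) hy.symm) with e | e | e | e
    · exact e
    · exfalso; rw [e] at hcomm; exact hne hcomm
    · exfalso; rw [e] at hcomm; exact hzy hcomm
    · exfalso
      rw [e, show g * (x * y) * g⁻¹ = g * x * g⁻¹ * (g * y * g⁻¹) by group, ← hy, ← hz,
        (klein_comm hP hx hy').1] at hcomm
      exact hzx (mul_left_cancel hcomm)

theorem mem_closure_pair (x y : PSLtwo F) :
    x ∈ Subgroup.closure ({x, y} : Set (PSLtwo F)) ∧ y ∈ Subgroup.closure ({x, y} : Set (PSLtwo F)) :=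
  ⟨Subgroup.subset_closure (Set.mem_insert _ _), Subgroup.subset_closure (Set.mem_insert_of_mem _ rfl)⟩

theorem weyl_comm_iff {y : SLtwo F} (hy : proj y * proj weyl = proj weyl * proj y) :
    tr y = 0 ∨ (y 0 0 = y 1 1 ∧ y 0 1 = -y 1 0) := by
  rcases comm_lift hy with e | e <;> rw [mul_inv_eq_iff_eq_mul] at e <;>
    have e00 := congrArg (fun z : SLtwo F => z 0 0) e <;>
    have e01 := congrArg (fun z : SLtwo F => z 0 1) e
  · simp only [mul_00, mul_01, weyl_00, weyl_01, weyl_10, weyl_11] at e00 e01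
    exact Or.inr ⟨by linear_combination e01, by linear_combination -e00⟩
  · simp only [mul_00, mul_01, Matrix.SpecialLinearGroup.coe_neg, Matrix.neg_apply, weyl_00, weyl_01,
      weyl_10, weyl_11] at e00 e01
    left
    simp only [tr]
    linear_combination e01

theorem center_weyl_mul {y : SLtwo F} (e : weyl * y ∈ Subgroup.center (SLtwo F)) : y 1 1 = 0 ∧ y 0 0 = 0 := by
  obtain ⟨h1, h2, -⟩ := (mem_center_iff_entries _).1 e
  simp only [mul_01, mul_10, weyl_00, weyl_01, weyl_10, weyl_11] at h1 h2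
  exact ⟨by linear_combination h1, by linear_combination -h2⟩

theorem mem_solub_weyl (h : Hyp3 F) (y : SLtwo F) :
    proj y ∈ solub (proj weyl) ↔ tr y = 0 ∨ tr (weyl * y) = 0 ∨ (y 0 0 = y 1 1 ∧ y 0 1 = -y 1 0) ∨
      (tr y * tr y = 1 ∧ tr (weyl * y) * tr (weyl * y) = 1) := by
  set x := proj (weyl : SLtwo F) with hx
  have hxx : x * x = 1 := sq_one_of_tr_zero tr_weyl
  have hxinv : x⁻¹ = x := inv_eq_of_mul_eq_one_right hxx
  have hx1 : x ≠ 1 := fun e => by
    obtain ⟨e1, -⟩ := (mem_center_iff_entries _).1 (proj_eq_one_iff.1 e)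
    simp at e1
  have hell : IsElliptic (weyl : SLtwo F) := fun r hr => h.nsq ⟨r, by
    rw [tr_weyl] at hr; linear_combination -hr⟩
  have ysq : proj y * proj y = 1 → tr y = 0 ∨ (y 0 0 = y 1 1 ∧ y 0 1 = -y 1 0) := fun e => by
    rcases tr_zero_or_center e with e' | e'
    · exact Or.inl e'
    · obtain ⟨h1, h2, h3⟩ := (mem_center_iff_entries _).1 e'
      exact Or.inr ⟨h3, by rw [h1, h2, neg_zero]⟩
  have xysq : x * proj y * (x * proj y) = 1 → tr (weyl * y) = 0 ∨ tr y = 0 := fun e => by
    rw [hx, ← map_mul] at e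
    rcases tr_zero_or_center e with e' | e'
    · exact Or.inl e'
    · right; simp [tr, (center_weyl_mul e').1, (center_weyl_mul e').2]
  constructor
  · intro hs
    obtain ⟨hxm, hym⟩ := mem_closure_pair x (proj y)
    have hcomm : proj y * x = x * proj y → _ := fun e => weyl_comm_iff (y := y) e
    have finish1 : proj y * proj y = 1 → tr y = 0 ∨ tr (weyl * y) = 0 ∨
        (y 0 0 = y 1 1 ∧ y 0 1 = -y 1 0) ∨ (tr y * tr y = 1 ∧ tr (weyl * y) * tr (weyl * y) = 1) := fun e => (ysq e).imp id fun z => Or.inr (Or.inl z)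
    have finish2 : x * proj y * (x * proj y) = 1 → tr y = 0 ∨ tr (weyl * y) = 0 ∨
        (y 0 0 = y 1 1 ∧ y 0 1 = -y 1 0) ∨ (tr y * tr y = 1 ∧ tr (weyl * y) * tr (weyl * y) = 1) :=
      fun e => (xysq e).elim (fun z => Or.inr (Or.inl z)) Or.inl
    rcases solvable_cases hs (closure_ne_bot hx1) with ⟨a, ha, hN⟩ | ⟨a, ha, ha1, hN⟩ | ⟨-, a, b, hP⟩
    · by_cases hxa : x ∈ torus a
      · have hm := mem_normalizer_of hx1 ha.ne_one hxa (hN _ hym)
        have hc : proj y * x = x * proj y := by
          rcases normalizer_torus_semi (isSemi_of_invol h.two_ne hxx hx1) hm with e | e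
          · exact torus_comm hx1 e (mem_torus_self x)
          · have := e.2.2 x (mem_torus_self x)
            rw [hxinv] at this
            exact mul_inv_eq_iff_eq_mul.1 this
        exact (hcomm hc).imp id fun z => Or.inr (Or.inl z)
      · have hinv := ((normalizer_torus_semi ha (hN x hxm)).resolve_left hxa).2.2
        rcases normalizer_torus_semi ha (hN _ hym) with e | e
        · refine finish2 ?_
          have := hinv _ e
          rw [hxinv] at this
          rw [show x * proj y * (x * proj y) = (x * proj y * x) * proj y by group, this, inv_mul_cancel]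
        · exact finish1 e.2.1
    · exact absurd (hN x hxm) (elliptic_not_borel hell ha ha1)
    · have hperm := hP.2.2.2.2.2.2
      have hfix : ∀ d, (d = a ∨ d = b ∨ d = a * b) → x * d = d * x := by
        intro d hd
        obtain ⟨he, hdd, hd1⟩ := And.intro (hperm x hxm d hd) (And.intro (klein_comm hP hd hd).2.1 (klein_comm hP hd hd).2.2)
        rw [hxinv] at he
        have hee := klein_comm hP he hd
        have hsq : x * d * (x * d) = x * d * x * d := by group
        have h4 : (x * d) ^ 4 = 1 := by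
          rw [show (x * d) ^ 4 = x * d * (x * d) * (x * d * (x * d)) by simp [pow_succ, mul_assoc], hsq,
            mul_assoc (x * d * x) d, ← mul_assoc d (x * d * x), ← hee.1, mul_assoc (x * d * x) d d, hdd, mul_one,
            hee.2.1]
        have h2' := no_four h h4
        rw [hsq, mul_eq_one_iff_eq_inv, inv_eq_of_mul_eq_one_right hdd] at h2'
        rw [← hxinv, mul_inv_eq_iff_eq_mul, hxinv] at h2'
        exact h2'
      have hxT : x = a ∨ x = b ∨ x = a * b := (klein_mem_of_fix h hP (Or.inl rfl) (Or.inr (Or.inl rfl))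
        hP.2.2.2.2.1 (hfix a (Or.inl rfl)) (hfix b (Or.inr (Or.inl rfl)))).resolve_left hx1
      by_cases hyx : proj y * x * (proj y)⁻¹ = x
      · exact (hcomm (mul_inv_eq_iff_eq_mul.1 hyx)).imp id fun z => Or.inr (Or.inl z)
      have hne2 : (x * proj y) * x * (x * proj y)⁻¹ ≠ x := by
        rw [show x * proj y * x * (x * proj y)⁻¹ = x * (proj y * x * (proj y)⁻¹) * x⁻¹ by group,
          hfix _ (hperm _ hym x hxT), mul_inv_cancel_right]
        exact hyx
      rcases klein_move h hP hxT hym hyx with e | e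
      · exact finish1 e
      rcases klein_move h hP hxT (mul_mem hxm hym) hne2 with e' | e'
      · exact finish2 e'
      by_cases hy1 : proj y = 1
      · exact absurd (by rw [hy1, one_mul, inv_one, mul_one]) hyx
      by_cases hxy1 : x * proj y = 1
      · exact absurd (by rw [hxy1, one_mul, inv_one, mul_one]) hne2
      refine Or.inr (Or.inr (Or.inr ⟨(tr_of_pow hy1).2.1 e, ?_⟩))
      rw [hx, ← map_mul] at e' hxy1
      exact (tr_of_pow hxy1).2.1 e'
  · rintro (e | e | ⟨e1, e2⟩ | ⟨e1, e2⟩)
    · exact solvable_two_invol hxx (sq_one_of_tr_zero e)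
    · refine solvable_inverts hxx ?_
      rw [hx, ← map_mul]; exact sq_one_of_tr_zero e
    · refine torus_solub hx1 (conj_mem_of_comm ?_)
      rw [hx, ← map_mul, ← map_mul]
      congr 1
      apply ext_entries <;> simp only [mul_00, mul_01, mul_10, mul_11, weyl_00, weyl_01, weyl_10, weyl_11] <;>
        simp only [e1, e2] <;> ring
    · refine solvable_tetra hxx (cube_one_of_tr e1) ?_
      rw [hx, ← map_mul]; exact cube_one_of_tr e2

theorem mem_solub_order_three (h : Hyp3 F) {c : F} (hc : c ≠ 0) (y : SLtwo F) :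
    proj y ∈ solub (proj (upper c)) ↔
      y 1 0 = 0 ∨ (y 1 0 ≠ 0 ∧ (c * y 1 0) ^ 2 = 1 ∧ tr y ^ 3 = tr y) := by
  set x := proj (upper c) with hx
  have hxu : IsUnip x := isUnip_upper c
  have hx3 : x ^ 3 = 1 := by
    rw [hx, ← map_pow, upper_pow]; push_cast; rw [h.three, zero_mul, upper_zero, map_one]
  have hx1 : x ≠ 1 := fun e => by
    obtain ⟨e1, -⟩ := (mem_center_iff_entries _).1 (proj_eq_one_iff.1 e)
    exact hc (by simpa using e1)
  have hx2 : x * x ≠ 1 := fun e => hx1 (by
    calc x = x * (x * x) := by rw [e, mul_one]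
      _ = 1 := by rw [← pow_two, ← pow_succ', hx3])
  have htr : ∀ n : ℕ, tr (upper ((n : F) * c) * y) = tr y + (n : F) * c * y 1 0 := fun n => by
    simp only [tr, mul_00, mul_11, upper_00, upper_01, upper_10, upper_11]; ring
  have hpow : ∀ n : ℕ, x ^ n * proj y = proj (upper ((n : F) * c) * y) := fun n => by
    rw [map_mul, hx, ← map_pow, upper_pow]
  constructor
  · intro hs
    by_cases hy0 : y 1 0 = 0
    · exact Or.inl hy0
    refine Or.inr ⟨hy0, ?_⟩
    obtain ⟨hxm, hym⟩ := mem_closure_pair x (proj y)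
    have hnofix : ∀ d, IsSemi d → x * d * x⁻¹ ∉ torus d := fun d hd hm => by
      rcases normalizer_torus_semi hd hm with e | e
      · exact unip_not_mem_semi hxu hx1 hd e
      · exact hx2 e.2.1
    rcases solvable_cases hs (closure_ne_bot hx1) with ⟨a, ha, hN⟩ | ⟨a, ha, ha1, hN⟩ | ⟨h2, a, b, hP⟩
    · exact absurd (hN x hxm) (hnofix a ha)
    · exfalso
      have hm := mem_normalizer_of hx1 ha1 (unip_mem_torus hxu ha ha1 (hN x hxm)) (hN (proj y) hym)
      rw [hx, ← map_inv, ← map_mul, ← map_mul, proj_mem_torus_iff, normalizer_upper_iff hc] at hm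
      exact hy0 hm
    · have hperm := hP.2.2.2.2.2.2
      have hmove : ∀ d, (d = a ∨ d = b ∨ d = a * b) → x * d * x⁻¹ ≠ d := fun d hd e => by
        refine hnofix d (isSemi_of_invol h2 (klein_comm hP hd hd).2.1 (klein_comm hP hd hd).2.2) ?_
        rw [e]; exact mem_torus_self d
      set d := proj y * a * (proj y)⁻¹ with hd
      have hd' := hperm _ hym a (Or.inl rfl)
      rw [← hd] at hd'
      obtain ⟨n, hn⟩ : ∃ n : ℕ, x ^ n * d * (x ^ n)⁻¹ = a := by
        by_cases h0 : d = a
        · exact ⟨0, by rw [h0]; group⟩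
        by_cases h1 : x * d * x⁻¹ = a
        · exact ⟨1, by rw [pow_one]; exact h1⟩
        refine ⟨2, ?_⟩
        have he' := hperm x hxm d hd'
        have hf' := hperm x hxm _ he'
        have n1 : x * (x * d * x⁻¹) * x⁻¹ ≠ x * d * x⁻¹ := fun e => hmove d hd' (mul_left_cancel (mul_right_cancel e))
        have n2 : x * (x * d * x⁻¹) * x⁻¹ ≠ d := fun e => hmove d hd' (by
          have e2 : x ^ 3 * d * (x ^ 3)⁻¹ = x * d * x⁻¹ := by
            rw [conj_cube, e]
          rw [hx3, one_mul, inv_one, mul_one] at e2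
          exact e2.symm)
        have e1 := klein_third hP (Or.inl rfl) hd' he' (Ne.symm h0) (Ne.symm (hmove d hd')) (Ne.symm h1)
        have e2 := klein_third hP hf' hd' he' n2 (Ne.symm (hmove d hd')) n1
        rw [conj_sq]
        exact (mul_left_cancel (e1.trans e2.symm)).symm
      set t := x ^ n * proj y with ht
      have htm : t ∈ Subgroup.closure ({x, proj y} : Set (PSLtwo F)) := mul_mem (pow_mem hxm n) hym
      have hta : t * a * t⁻¹ = a := by rw [ht, conj_mul', ← hd, hn]
      have ha' : a = a ∨ a = b ∨ a = a * b := Or.inl rfl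
      have hb' : b = a ∨ b = b ∨ b = a * b := Or.inr (Or.inl rfl)
      have htb : t * b * t⁻¹ = b := by
        rcases hperm t htm b hb' with e | e | e
        · exact absurd (mul_left_cancel (mul_right_cancel (e.trans hta.symm))).symm hP.2.2.2.2.1
        · exact e
        · exfalso
          have hab2 : t * (a * b) * t⁻¹ = b := by
            rw [show t * (a * b) * t⁻¹ = t * a * t⁻¹ * (t * b * t⁻¹) by group, hta, e, ← mul_assoc, hP.1, one_mul]
          have hfa : t * t * a = a * (t * t) := by
            rw [← mul_inv_eq_iff_eq_mul]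
            conv_rhs => rw [← hta, ← hta]
            group
          have hfb : t * t * b = b * (t * t) := by
            rw [← mul_inv_eq_iff_eq_mul, show t * t * b * (t * t)⁻¹ = t * (t * b * t⁻¹) * t⁻¹ by group, e, hab2]
          have htt : t * t = 1 := no_four h (by
            rw [show t ^ 4 = t * t * (t * t) by simp [pow_succ, mul_assoc]]
            exact sq_of_klein h hP ha' hb' hP.2.2.2.2.1 hfa hfb)
          have hbb : (t * b) * (t * b) = a := by
            rw [show t * b * (t * b) = t * b * t * b by group]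
            nth_rw 2 [← inv_eq_of_mul_eq_one_right htt]
            rw [e, mul_assoc, hP.2.1, mul_one]
          exact hP.2.2.1 (hbb.symm.trans (no_four h (by
            rw [show (t * b) ^ 4 = t * b * (t * b) * (t * b * (t * b)) by simp [pow_succ, mul_assoc], hbb, hP.1])))
      rcases klein_mem_of_fix h hP ha' hb' hP.2.2.2.2.1 (mul_inv_eq_iff_eq_mul.1 hta)
        (mul_inv_eq_iff_eq_mul.1 htb) with e | hu'
      · exfalso
        rw [ht, hpow] at e
        have e10 := ((mem_center_iff_entries _).1 (proj_eq_one_iff.1 e)).2.1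
        simp only [mul_10, upper_10, upper_11, zero_mul, zero_add, one_mul] at e10
        exact hy0 e10
      · have ht2 := (klein_comm hP hu' hu')
        have ht0 : tr y + (n : F) * c * y 1 0 = 0 := by
          rw [← htr]
          have e1 : proj (upper ((n : F) * c) * y) ≠ 1 := by rw [← hpow, ← ht]; exact ht2.2.2
          exact (tr_of_pow e1).1 (by rw [← hpow, ← ht]; exact ht2.2.1)
        set v := x⁻¹ * t * x with hv
        set w := x⁻¹ * v * x with hw
        have hv' : v = a ∨ v = b ∨ v = a * b := by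
          have := hperm _ (inv_mem hxm) t hu'
          rwa [inv_inv] at this
        have hw' : w = a ∨ w = b ∨ w = a * b := by
          have := hperm _ (inv_mem hxm) v hv'
          rwa [inv_inv] at this
        have ev : x * v * x⁻¹ = t := by rw [hv]; group
        have ew : x * w * x⁻¹ = v := by rw [hw]; group
        have ntv : t ≠ v := fun e => hmove v hv' (ev.trans e)
        have nvw : v ≠ w := fun e => hmove w hw' (ew.trans e)
        have ntw : t ≠ w := fun e => hmove t hu' (by
          have e3 : x ^ 3 * w * (x ^ 3)⁻¹ = w := by rw [hx3, one_mul, inv_one, mul_one]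
          rw [conj_cube, ew, ev, ← e] at e3
          exact e3)
        have hxt3 : (x * t) ^ 3 = 1 := by
          calc (x * t) ^ 3 = x ^ 3 * ((x⁻¹ * (x⁻¹ * t * x) * x) * (x⁻¹ * t * x) * t) := mul_cube x t
            _ = 1 := by rw [hx3, ← hv, ← hw, klein_third hP hu' hv' hw' ntv nvw ntw, one_mul]
        have hxt1 : x * t ≠ 1 := fun e => hx2 (by
          have := eq_inv_of_mul_eq_one_left e
          rw [this, ← mul_inv_rev, ht2.2.1, inv_one])
        have hsucc : x * t = proj (upper (((n + 1 : ℕ) : F) * c) * y) := by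
          rw [ht, ← mul_assoc, ← pow_succ', hpow]
        rw [hsucc] at hxt3 hxt1
        have hsq := (tr_of_pow hxt1).2.1 hxt3
        rw [htr] at hsq
        push_cast at hsq
        have hcy : (c * y 1 0) ^ 2 = 1 := by
          linear_combination hsq - (tr y + (n : F) * c * y 1 0 + 2 * (c * y 1 0)) * ht0
        refine ⟨hcy, ?_⟩
        have hn3 : (n : F) ^ 3 = n := by
          have hk : ∀ k : ℕ, (k : F) ^ 3 = k := by
            intro k
            induction k with
            | zero => simp
            | succ k ih => push_cast; linear_combination ih + ((k : F) ^ 2 + k) * h.three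
          exact hk n
        linear_combination (tr y ^ 2 - tr y * ((n : F) * c * y 1 0) + ((n : F) * c * y 1 0) ^ 2 - 1) * ht0 -
          (c * y 1 0) ^ 3 * hn3 - (n : F) * (c * y 1 0) * hcy
  · rintro (h0 | ⟨-, h1, h2⟩)
    · refine borel_solub hxu hx1 (by rw [mul_inv_cancel_right]; exact mem_torus_self x) ?_
      rw [hx, ← map_inv, ← map_mul, ← map_mul, proj_mem_torus_iff, normalizer_upper_iff hc]
      exact h0
    · obtain ⟨n, hn⟩ : ∃ n : ℕ, tr y + (n : F) * c * y 1 0 = 0 := by
        have hk : tr y * (tr y - 1) * (tr y + 1) = 0 := by linear_combination h2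
        have he : (c * y 1 0 - 1) * (c * y 1 0 + 1) = 0 := by linear_combination h1
        simp only [mul_eq_zero, sub_eq_zero, add_eq_zero_iff_eq_neg] at hk he
        rcases hk with (k | k) | k <;> rcases he with e | e
        · exact ⟨0, by simp [k]⟩
        · exact ⟨0, by simp [k]⟩
        · exact ⟨2, by push_cast; linear_combination k + 2 * e + h.three⟩
        · exact ⟨1, by push_cast; linear_combination k + e⟩
        · exact ⟨1, by push_cast; linear_combination k + e⟩
        · exact ⟨2, by push_cast; linear_combination k + 2 * e - h.three⟩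
      have hcl : ∀ k : ℕ, Subgroup.closure ({x, x ^ k * proj y} : Set (PSLtwo F)) =
          Subgroup.closure ({x, proj y} : Set (PSLtwo F)) := by
        intro k
        induction k with
        | zero => rw [pow_zero, one_mul]
        | succ k ih => rw [pow_succ', mul_assoc, closure_mul_left, ih]
      show Group.IsSolvable ↥(Subgroup.closure ({x, proj y} : Set (PSLtwo F)))
      rw [← hcl n, Set.pair_comm]
      refine solvable_tetra ?_ hx3 ?_
      · rw [hpow]; exact sq_one_of_tr_zero (by rw [htr]; exact hn)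
      · rw [rot_cube, hpow,
          cube_one_of_tr (by rw [htr]; push_cast; linear_combination h1 + (tr y + (n : F) * c * y 1 0 + 2 * (c * y 1 0)) * hn)]
        group

end Cfsg.Agent.Lib.SL2Solubilizer
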