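import Mathlib

/-! Solvability of two-generated subgroups. -/

set_option autoImplicit false

namespace Cfsg.Agent.Lib.SL2Solubilizer

variable {G : Type*} [Group G]

/-- The solubilizer of an element. -/
def solub (x : G) : Set G := {y | Group.IsSolvable ↥(Subgroup.closure ({x, y} : Set G))}

/-- An abelian normal part with cyclic quotient. -/
theorem solvable_gen {x y : G} (V : Subgroup G) (hV : ∀ a ∈ V, ∀ b ∈ V, a * b = b * a) (hx : x ∈ V)
    (hy : y ∈ Subgroup.normalizer (V : Set G)) : Group.IsSolvable ↥(Subgroup.closure ({x, y} : Set G)) := by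
  let H := Subgroup.closure ({x, y} : Set G)
  let N := Subgroup.normalizer (V : Set G)
  have hle : H ≤ N := by
    rw [Subgroup.closure_le, Set.insert_subset_iff, Set.singleton_subset_iff]
    exact ⟨Subgroup.le_normalizer hx, hy⟩
  let φ : H →* N ⧸ V.subgroupOf N := (QuotientGroup.mk' _).comp (Subgroup.inclusion hle)
  let f : φ.ker →* V :=
    { toFun := fun k => ⟨((k : H) : G), Subgroup.mem_subgroupOf.1
        ((QuotientGroup.eq_one_iff (N := V.subgroupOf N) (Subgroup.inclusion hle (k : H))).1 k.2)⟩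
      map_one' := rfl
      map_mul' := fun _ _ => rfl }
  have hker : Group.IsSolvable φ.ker := Group.isSolvable_of_comm fun a b =>
    Subtype.ext (Subtype.ext (hV _ (f a).2 _ (f b).2))
  have hr : φ.range ≤ Subgroup.zpowers ((QuotientGroup.mk' (V.subgroupOf N)) ⟨y, hy⟩) := by
    rintro _ ⟨k, rfl⟩
    have hk : (Subgroup.inclusion hle k) ∈ (Subgroup.closure ({x, y} : Set G)).subgroupOf N :=
      Subgroup.mem_subgroupOf.2 k.2
    have key : ∀ g (hg : g ∈ H), (QuotientGroup.mk' (V.subgroupOf N)) ⟨g, hle hg⟩ ∈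
        Subgroup.zpowers ((QuotientGroup.mk' (V.subgroupOf N)) ⟨y, hy⟩) := by
      intro g hg
      induction hg using Subgroup.closure_induction with
      | mem g hg =>
        rcases hg with rfl | rfl
        · rw [show (QuotientGroup.mk' (V.subgroupOf N)) ⟨g, _⟩ = 1 from
            (QuotientGroup.eq_one_iff _).2 (Subgroup.mem_subgroupOf.2 hx)]
          exact one_mem _
        · exact Subgroup.mem_zpowers _
      | one => exact (map_one (QuotientGroup.mk' (V.subgroupOf N))).symm ▸ one_mem _
      | mul a b ha hb ia ib =>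
        have := mul_mem ia ib
        rwa [← map_mul] at this
      | inv a ha ia =>
        have := inv_mem ia
        rwa [← map_inv] at this
    exact key k k.2
  have hcomm : ∀ a b : φ.range, a * b = b * a := fun a b => by
    obtain ⟨i, hi⟩ := hr a.2
    obtain ⟨j, hj⟩ := hr b.2
    refine Subtype.ext ?_
    simp only [Subgroup.coe_mul, ← hi, ← hj]
    exact zpow_mul_comm _ i j
  have : Group.IsSolvable φ.range := Group.isSolvable_of_comm hcomm
  exact Group.isSolvable_of_ker_le_range φ.ker.subtype φ.rangeRestrict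
    (by rw [MonoidHom.ker_rangeRestrict, Subgroup.range_subtype])

theorem mem_normalizer_zpowers [Finite G] {z y : G} (h : y * z * y⁻¹ ∈ Subgroup.zpowers z) :
    y ∈ Subgroup.normalizer (Subgroup.zpowers z : Set G) := by
  have hle : (Subgroup.zpowers z).map (MulAut.conj y).toMonoidHom ≤ Subgroup.zpowers z := by
    rw [MonoidHom.map_zpowers, Subgroup.zpowers_le]
    exact h
  have heq := Subgroup.eq_of_le_of_card_ge hle
    (le_of_eq (Subgroup.card_map_of_injective (MulAut.conj y).injective).symm)
  rw [Subgroup.mem_normalizer_iff]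
  intro g
  refine ⟨fun hg => hle ⟨g, hg, rfl⟩, fun hg => ?_⟩
  rw [← heq] at hg
  obtain ⟨k, hk, e⟩ := hg
  rwa [← (MulAut.conj y).injective e]

theorem solvable_inverts [Finite G] {x y : G} (hx : x * x = 1) (hxy : x * y * (x * y) = 1) :
    Group.IsSolvable ↥(Subgroup.closure ({x, y} : Set G)) := by
  rw [Set.pair_comm]
  refine solvable_gen (Subgroup.zpowers y) (fun a ⟨i, hi⟩ b ⟨j, hj⟩ => by
    rw [← hi, ← hj]; exact zpow_mul_comm y i j) (Subgroup.mem_zpowers y) (mem_normalizer_zpowers ?_)
  have hx' : x⁻¹ = x := inv_eq_of_mul_eq_one_right hx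
  have : x * y * x = y⁻¹ := eq_inv_of_mul_eq_one_left (by rw [← hxy]; group)
  rw [hx', this]
  exact inv_mem (Subgroup.mem_zpowers y)

theorem closure_mul_left (x y : G) :
    Subgroup.closure ({x, x * y} : Set G) = Subgroup.closure ({x, y} : Set G) := by
  refine le_antisymm ?_ ?_ <;> rw [Subgroup.closure_le, Set.insert_subset_iff, Set.singleton_subset_iff]
  · exact ⟨Subgroup.subset_closure (Set.mem_insert _ _),
      mul_mem (Subgroup.subset_closure (Set.mem_insert _ _)) (Subgroup.subset_closure (Set.mem_insert_of_mem _ rfl))⟩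
  · refine ⟨Subgroup.subset_closure (Set.mem_insert _ _), ?_⟩
    have := mul_mem (inv_mem (Subgroup.subset_closure (Set.mem_insert x {x * y})))
      (Subgroup.subset_closure (Set.mem_insert_of_mem x (rfl : x * y ∈ ({x * y} : Set G))))
    rwa [inv_mul_cancel_left] at this

theorem solvable_two_invol [Finite G] {x y : G} (hx : x * x = 1) (hy : y * y = 1) :
    Group.IsSolvable ↥(Subgroup.closure ({x, y} : Set G)) := by
  rw [← closure_mul_left]
  exact solvable_inverts hx (by rw [← mul_assoc x, hx, one_mul, hy])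

/-- The relations of the alternating group of degree four. -/
theorem solvable_tetra [Finite G] {x y : G} (hx : x * x = 1) (hy : y ^ 3 = 1) (hxy : (x * y) ^ 3 = 1) :
    Group.IsSolvable ↥(Subgroup.closure ({x, y} : Set G)) := by
  have hx' : x⁻¹ = x := inv_eq_of_mul_eq_one_right hx
  have hy' : y⁻¹ = y * y := inv_eq_of_mul_eq_one_right (by rw [← hy, pow_succ', pow_two])
  set z := y * x * y⁻¹ with hz
  set w := y * z * y⁻¹ with hw
  have hzz : z * z = 1 := by
    rw [hz, show y * x * y⁻¹ * (y * x * y⁻¹) = y * (x * x) * y⁻¹ by group, hx, mul_one, mul_inv_cancel]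
  have hwy : w = y⁻¹ * x * y := by
    have h3 : y * (y * y) = 1 := by rw [← hy, pow_succ', pow_two]
    rw [hw, hz, hy']
    calc y * (y * x * (y * y)) * (y * y) = y * y * x * (y * (y * (y * y))) := by group
      _ = y * y * x * y := by rw [h3, mul_one]
  have hxz : x * z = w := by
    rw [hwy, hz]
    have h3 : x * y * (x * y) * (x * y) = 1 := by rw [← hxy, pow_succ, pow_two]
    have e1 : x * y * x = y⁻¹ * x⁻¹ * y⁻¹ := by
      calc x * y * x = (x * y * (x * y) * (x * y)) * (y⁻¹ * x⁻¹ * y⁻¹) := by group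
        _ = _ := by rw [h3, one_mul]
    calc x * (y * x * y⁻¹) = (x * y * x) * y⁻¹ := by group
      _ = y⁻¹ * x⁻¹ * y⁻¹ * y⁻¹ := by rw [e1]
      _ = y⁻¹ * x * (y⁻¹ * y⁻¹) := by rw [hx', mul_assoc (y⁻¹ * x)]
      _ = y⁻¹ * x * y := by rw [← mul_inv_rev, ← hy', inv_inv]
  have hww : w * w = 1 := by
    rw [hw, show y * z * y⁻¹ * (y * z * y⁻¹) = y * (z * z) * y⁻¹ by group, hzz, mul_one, mul_inv_cancel]
  have hcomm : x * z = z * x := by
    have e : (x * z)⁻¹ = x * z := inv_eq_of_mul_eq_one_right (by rw [hxz, hww])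
    rw [mul_inv_rev, hx', inv_eq_of_mul_eq_one_right hzz] at e
    exact e.symm
  let V := Subgroup.closure ({x, z} : Set G)
  have hVc : ∀ a ∈ V, ∀ b ∈ V, a * b = b * a := by
    have : V ≤ Subgroup.centralizer (V : Set G) := by
      have h1 : ∀ g ∈ ({x, z} : Set G), ∀ k ∈ ({x, z} : Set G), g * k = k * g := by
        rintro g (rfl | rfl) k (rfl | rfl) <;> first | rfl | exact hcomm | exact hcomm.symm
      rw [Subgroup.closure_le]
      intro g hg
      rw [SetLike.mem_coe, Subgroup.mem_centralizer_iff]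
      intro k hk
      induction hk using Subgroup.closure_induction with
      | mem k hk => exact h1 k hk g hg
      | one => simp
      | mul a b _ _ ha hb => rw [mul_assoc, hb, ← mul_assoc, ha, mul_assoc]
      | inv a _ ha => rw [eq_mul_inv_iff_mul_eq, mul_assoc, ← ha, inv_mul_cancel_left]
    intro a ha b hb
    exact (Subgroup.mem_centralizer_iff.1 (this ha) b hb).symm
  have hxV : x ∈ V := Subgroup.subset_closure (Set.mem_insert _ _)
  have hzV : z ∈ V := Subgroup.subset_closure (Set.mem_insert_of_mem _ rfl)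
  refine solvable_gen V hVc hxV ?_
  have hle : V.map (MulAut.conj y).toMonoidHom ≤ V := by
    rw [MonoidHom.map_closure, Subgroup.closure_le]
    rintro _ ⟨g, rfl | rfl, rfl⟩
    · exact hzV
    · show w ∈ V
      rw [← hxz]; exact mul_mem hxV hzV
  have heq := Subgroup.eq_of_le_of_card_ge hle
    (le_of_eq (Subgroup.card_map_of_injective (MulAut.conj y).injective).symm)
  rw [Subgroup.mem_normalizer_iff]
  intro g
  refine ⟨fun hg => hle ⟨g, hg, rfl⟩, fun hg => ?_⟩
  rw [← heq] at hg
  obtain ⟨k, hk, e⟩ := hg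
  rwa [← (MulAut.conj y).injective e]

/-- A nontrivial solvable subgroup normalizes a nontrivial abelian subgroup of itself. -/
theorem exists_normal_abelian {H : Subgroup G} (hs : Group.IsSolvable H) (hH : H ≠ ⊥) :
    ∃ A : Subgroup G, A ≤ H ∧ A ≠ ⊥ ∧ (∀ a ∈ A, ∀ b ∈ A, a * b = b * a) ∧
      ∀ g ∈ H, ∀ a ∈ A, g * a * g⁻¹ ∈ A := by
  classical
  have hex : ∃ k, derivedSeries H k = ⊥ := (Group.isSolvable_def H).1 hs
  obtain ⟨j, hj⟩ : ∃ j, Nat.find hex = j + 1 := ⟨Nat.find hex - 1, by
    rcases Nat.eq_zero_or_pos (Nat.find hex) with e | e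
    · exfalso
      have := Nat.find_spec hex
      rw [e, derivedSeries_zero] at this
      exact hH ((Subgroup.eq_bot_iff_forall _).2 fun g hg => by
        have h1 : (⟨g, hg⟩ : H) ∈ (⊤ : Subgroup H) := Subgroup.mem_top _
        rw [this] at h1
        exact congrArg Subtype.val (Subgroup.mem_bot.1 h1))
    · omega⟩
  have hne : derivedSeries H j ≠ ⊥ := Nat.find_min hex (by omega)
  have hz : ⁅derivedSeries H j, derivedSeries H j⁆ = ⊥ := by
    have := Nat.find_spec hex
    rwa [hj, derivedSeries_succ] at this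
  refine ⟨(derivedSeries H j).map H.subtype, Subgroup.map_subtype_le _, ?_, ?_, ?_⟩
  · rw [Ne, Subgroup.map_eq_bot_iff_of_injective _ H.subtype_injective]
    exact hne
  · rintro _ ⟨a, ha, rfl⟩ _ ⟨b, hb, rfl⟩
    rw [← map_mul, ← map_mul]
    congr 1
    have hab := Subgroup.commutator_mem_commutator ha hb
    rw [hz] at hab
    exact commutatorElement_eq_one_iff_mul_comm.1 (Subgroup.mem_bot.1 hab)
  · rintro g hg _ ⟨a, ha, rfl⟩
    exact ⟨⟨g, hg⟩ * a * ⟨g, hg⟩⁻¹, (derivedSeries_normal H j).conj_mem a ha _, rfl⟩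

theorem mem_solub_congr {H : Type*} [Group H] (e : G ≃* H) {x y : G} :
    e y ∈ solub (e x) ↔ y ∈ solub x := by
  have hmap : (Subgroup.closure ({x, y} : Set G)).map e.toMonoidHom =
      Subgroup.closure ({e x, e y} : Set H) := by
    rw [MonoidHom.map_closure, Set.image_pair]; rfl
  let E := (Subgroup.equivMapOfInjective (Subgroup.closure ({x, y} : Set G)) e.toMonoidHom e.injective).trans
    (MulEquiv.subgroupCongr hmap)
  constructor
  · intro hs
    have hs' : Group.IsSolvable (Subgroup.closure ({e x, e y} : Set H)) := hs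
    exact Group.isSolvable_of_surjective (f := E.symm.toMonoidHom) E.symm.surjective
  · intro hs
    have hs' : Group.IsSolvable (Subgroup.closure ({x, y} : Set G)) := hs
    exact Group.isSolvable_of_surjective (f := E.toMonoidHom) E.surjective

theorem card_solub_conj (k x : G) : Nat.card (solub (k * x * k⁻¹)) = Nat.card (solub x) :=
  (Nat.card_congr ((MulAut.conj k).toEquiv.subtypeEquiv fun _ =>
    (mem_solub_congr (MulAut.conj k)).symm)).symm

end Cfsg.Agent.Lib.SL2Solubilizer
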