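import Cfsg.Agent.Lib.SL2.ToriExist
import Cfsg.Agent.Lib.SL2.Solvable
import Cfsg.Agent.Lib.SL2.OddProductGraph
import Cfsg.Agent.Lib.SL2.KleinFour
import Cfsg.Agent.Lib.SL2Solubilizer.Group

/-! Solubilizers in `PSL₂(q)`. -/

set_option autoImplicit false

namespace Cfsg.Agent.Lib.SL2Solubilizer

open Matrix Cfsg.Agent.Lib.SL2 Cfsg.Agent.Lib.SL2.OddProductGraph

variable {F : Type*} [Field F]

theorem neg_eq_self (h2 : (2 : F) = 0) (g : SLtwo F) : -g = g := by
  refine ext_entries ?_ ?_ ?_ ?_ <;> simp only [Matrix.SpecialLinearGroup.coe_neg, Matrix.neg_apply]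
  · linear_combination -(g 0 0) * h2
  · linear_combination -(g 0 1) * h2
  · linear_combination -(g 1 0) * h2
  · linear_combination -(g 1 1) * h2

theorem comm_lift {g k : SLtwo F} (e : proj k * proj g = proj g * proj k) :
    k * g * k⁻¹ = g ∨ k * g * k⁻¹ = -g := by
  have e' : proj g = proj (k * g * k⁻¹) := by
    rw [map_mul, map_mul, map_inv, e, mul_inv_cancel_right]
  exact proj_eq_proj_iff.1 e'

theorem mem_torus_of_comm {g : SLtwo F} {x : PSLtwo F} (hg : (2 : F) = 0 ∨ tr g ≠ 0)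
    (e : x * proj g = proj g * x) : x ∈ torus (proj g) := by
  obtain ⟨k, rfl⟩ := proj_surjective x
  rw [proj_mem_torus_iff, Subgroup.mem_centralizer_singleton_iff, ← mul_inv_eq_iff_eq_mul]
  rcases comm_lift e with h | h
  · exact h
  · by_cases h2 : (2 : F) = 0
    · rw [h, neg_eq_self h2]
    · exfalso
      have ht := tr_conj g k
      rw [h, tr_neg] at ht
      exact hg.resolve_left h2 ((mul_eq_zero.1 (show (2 : F) * tr g = 0 by
        linear_combination -ht)).resolve_left h2)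

theorem conj_mem_of_comm {x n : PSLtwo F} (e : n * x = x * n) : n * x * n⁻¹ ∈ torus x := by
  rw [e, mul_inv_cancel_right]; exact mem_torus_self x

variable [Fintype F]

theorem isSemi_of_invol (h2 : (2 : F) ≠ 0) {x : PSLtwo F} (hx : x * x = 1) (hx1 : x ≠ 1) : IsSemi x :=
  isSemi_of_involution h2 (orderOf_eq_prime (by rw [sq]; exact hx) hx1)

theorem invol_unique (h2 : (2 : F) ≠ 0) {a z : PSLtwo F} (ha : a * a = 1) (ha1 : a ≠ 1)
    (hz : z * z = 1) (hz1 : z ≠ 1) (hmem : z ∈ torus a) : z = a := by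
  have hs := isSemi_of_invol h2 ha ha1
  obtain ⟨g, rfl⟩ := proj_surjective a
  obtain ⟨k, rfl⟩ := proj_surjective z
  have tg := (tr_of_pow ha1).1 ha
  have tk := (tr_of_pow hz1).1 hz
  rcases eq_or_eq_inv_of_tr hs.tr_ne (proj_mem_torus_iff.1 hmem) (tk.trans tg.symm) with e | e
  · rw [e]
  · rw [e, map_inv]; exact inv_eq_of_mul_eq_one_right ha

theorem mem_klein (h2 : (2 : F) ≠ 0) {a b z : PSLtwo F} (ha : a * a = 1) (hb : b * b = 1) (ha1 : a ≠ 1)
    (hb1 : b ≠ 1) (hab : a ≠ b) (hc : a * b = b * a) (hza : z * a = a * z) (hzb : z * b = b * z) :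
    z = 1 ∨ z = a ∨ z = b ∨ z = a * b := by
  have hs := isSemi_of_invol h2 ha ha1
  have hbT : b ∉ torus a := fun hm => hab (invol_unique h2 ha ha1 hb hb1 hm).symm
  have hbi : ∀ y ∈ torus a, b * y * b⁻¹ = y⁻¹ :=
    ((normalizer_torus_semi hs (conj_mem_of_comm hc.symm)).resolve_left hbT).2.2
  have key : ∀ w, w ∈ torus a → w * b = b * w → w = 1 ∨ w = a := by
    intro w hw hwb
    by_cases hw1 : w = 1
    · exact Or.inl hw1
    refine Or.inr (invol_unique h2 ha ha1 ?_ hw1 hw)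
    have e := hbi w hw
    rw [← hwb, mul_inv_cancel_right] at e
    exact mul_eq_one_iff_eq_inv.2 e
  by_cases hzT : z ∈ torus a
  · rcases key z hzT hzb with e | e
    · exact Or.inl e
    · exact Or.inr (Or.inl e)
  · have hzbT : z * b ∈ torus a := outside_mul_mem hs (conj_mem_of_comm hza) (conj_mem_of_comm hc.symm) hzT hbT
    have hz' : z = z * b * b := by rw [mul_assoc, hb, mul_one]
    rcases key (z * b) hzbT (by rw [← mul_assoc b, ← hzb]) with e | e
    · right; right; left; rw [hz', e, one_mul]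
    · right; right; right; rw [hz', e]

/-- A triple of commuting involutions permuted by a subgroup. -/
def Permutes (H : Subgroup (PSLtwo F)) (a b : PSLtwo F) : Prop :=
  a * a = 1 ∧ b * b = 1 ∧ a ≠ 1 ∧ b ≠ 1 ∧ a ≠ b ∧ a * b = b * a ∧
    ∀ g ∈ H, ∀ c, (c = a ∨ c = b ∨ c = a * b) →
      (g * c * g⁻¹ = a ∨ g * c * g⁻¹ = b ∨ g * c * g⁻¹ = a * b)

theorem solvable_cases {H : Subgroup (PSLtwo F)} (hs : Group.IsSolvable H) (hH : H ≠ ⊥) :
    (∃ a, IsSemi a ∧ ∀ g ∈ H, g * a * g⁻¹ ∈ torus a) ∨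
    (∃ a, IsUnip a ∧ a ≠ 1 ∧ ∀ g ∈ H, g * a * g⁻¹ ∈ torus a) ∨
    ((2 : F) ≠ 0 ∧ ∃ a b, Permutes H a b) := by
  obtain ⟨A, -, hA, hcomm, hnorm⟩ := exists_normal_abelian hs hH
  by_cases hex : ∃ g : SLtwo F, proj g ∈ A ∧ proj g ≠ 1 ∧ ((2 : F) = 0 ∨ tr g ≠ 0)
  · obtain ⟨g, hgA, hg1, hgt⟩ := hex
    have key : ∀ n ∈ H, n * proj g * n⁻¹ ∈ torus (proj g) := fun n hn =>
      mem_torus_of_comm hgt (hcomm _ (hnorm n hn _ hgA) _ hgA)
    rcases semi_or_unip (proj g) with h | h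
    · exact Or.inl ⟨_, h, key⟩
    · exact Or.inr (Or.inl ⟨_, h, hg1, key⟩)
  push Not at hex
  obtain ⟨a, haA, ha1⟩ : ∃ a ∈ A, a ≠ 1 := by
    by_contra hc
    push Not at hc
    exact hA ((Subgroup.eq_bot_iff_forall A).2 hc)
  have h2 : (2 : F) ≠ 0 := by
    obtain ⟨g, rfl⟩ := proj_surjective a
    exact (hex g haA ha1).1
  have hinv : ∀ z ∈ A, z * z = 1 := by
    intro z hz
    by_cases hz1 : z = 1
    · rw [hz1, mul_one]
    obtain ⟨g, rfl⟩ := proj_surjective z
    have := pow_orderOf_eq_one (proj g)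
    rwa [orderOf_proj_two h2 (hex g hz hz1).2, sq] at this
  by_cases hb : ∀ z ∈ A, z = 1 ∨ z = a
  · refine Or.inl ⟨a, isSemi_of_invol h2 (hinv a haA) ha1, fun g hg => ?_⟩
    rcases hb _ (hnorm g hg a haA) with e | e
    · exact absurd (conj_eq_one_iff.1 e) ha1
    · rw [e]; exact mem_torus_self a
  push Not at hb
  obtain ⟨b, hbA, hb1, hba⟩ := hb
  refine Or.inr (Or.inr ⟨h2, a, b, hinv a haA, hinv b hbA, ha1, hb1, hba.symm, hcomm a haA b hbA,
    fun g hg c hc => ?_⟩)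
  have hcA : c ∈ A := by
    rcases hc with rfl | rfl | rfl
    · exact haA
    · exact hbA
    · exact mul_mem haA hbA
  have hd := hnorm g hg c hcA
  rcases mem_klein h2 (hinv a haA) (hinv b hbA) ha1 hb1 hba.symm (hcomm a haA b hbA)
    (hcomm _ hd a haA) (hcomm _ hd b hbA) with e | e
  · exfalso
    have hc1 := conj_eq_one_iff.1 e
    rcases hc with rfl | rfl | rfl
    · exact ha1 hc1
    · exact hb1 hc1
    · exact hba (by
        have := mul_eq_one_iff_eq_inv.1 hc1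
        rw [inv_eq_of_mul_eq_one_right (hinv b hbA)] at this
        exact this.symm)
  · exact e

theorem pow_six_comm {H : Subgroup (PSLtwo F)} {a b : PSLtwo F} (hP : Permutes H a b) {x : PSLtwo F}
    (hx : x ∈ H) : x ^ 6 * a = a * x ^ 6 ∧ x ^ 6 * b = b * x ^ 6 := by
  obtain ⟨-, -, -, -, -, -, hperm⟩ := hP
  let T : PSLtwo F → Prop := fun c => c = a ∨ c = b ∨ c = a * b
  let f : PSLtwo F → PSLtwo F := fun c => x * c * x⁻¹
  have hinj : ∀ c d, f c = f d → c = d := fun c d e => mul_left_cancel (mul_right_cancel e)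
  have hf : ∀ c, T c → T (f c) := fun c hc => hperm x hx c hc
  have hsix : ∀ c, T c → f (f (f (f (f (f c))))) = c := by
    intro c h0
    have h1 := hf _ h0
    have h2 := hf _ h1
    have h3 := hf _ h2
    by_cases e1 : f c = c
    · rw [e1, e1, e1, e1, e1, e1]
    by_cases e2 : f (f c) = c
    · rw [e2, e2, e2]
    have e3 : f (f (f c)) = c := by
      have n1 : f (f (f c)) ≠ f c := fun e => e2 (hinj _ _ e)
      have n2 : f (f (f c)) ≠ f (f c) := fun e => e1 (hinj _ _ (hinj _ _ e))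
      have n3 : f (f c) ≠ f c := fun e => e1 (hinj _ _ e)
      simp only [T] at h0 h1 h2 h3
      rcases h0 with r0 | r0 | r0 <;> rcases h1 with r1 | r1 | r1 <;> rcases h2 with r2 | r2 | r2 <;>
        rcases h3 with r3 | r3 | r3 <;>
        first
          | exact r3.trans r0.symm
          | exact absurd (r1.trans r0.symm) e1
          | exact absurd (r2.trans r0.symm) e2
          | exact absurd (r2.trans r1.symm) n3
          | exact absurd (r3.trans r1.symm) n1
          | exact absurd (r3.trans r2.symm) n2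
    rw [e3, e3]
  have conv : ∀ c, f (f (f (f (f (f c))))) = c → x ^ 6 * c = c * x ^ 6 := by
    intro c e
    rw [← mul_inv_eq_iff_eq_mul]
    refine Eq.trans ?_ e
    simp only [f, pow_succ, pow_zero, one_mul, _root_.mul_inv_rev, mul_assoc]
  exact ⟨conv a (hsix a (Or.inl rfl)), conv b (hsix b (Or.inr (Or.inl rfl)))⟩

theorem pow_twelve (h2 : (2 : F) ≠ 0) {H : Subgroup (PSLtwo F)} {a b : PSLtwo F} (hP : Permutes H a b)
    {x : PSLtwo F} (hx : x ∈ H) : x ^ 12 = 1 := by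
  obtain ⟨c1, c2⟩ := pow_six_comm hP hx
  obtain ⟨ha, hb, ha1, hb1, hab, hc, -⟩ := hP
  rw [show x ^ 12 = x ^ 6 * x ^ 6 by rw [← pow_add]]
  rcases mem_klein h2 ha hb ha1 hb1 hab hc c1 c2 with e | e | e | e <;> rw [e]
  · exact mul_one 1
  · exact ha
  · exact hb
  · rw [mul_assoc a, ← mul_assoc b, ← hc, mul_assoc a, hb, mul_one, ha]

theorem closure_ne_bot {x y : PSLtwo F} (hx : x ≠ 1) : Subgroup.closure ({x, y} : Set (PSLtwo F)) ≠ ⊥ := fun e =>
  hx (Subgroup.mem_bot.1 (e ▸ Subgroup.subset_closure (Set.mem_insert x {y})))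

theorem borel_solub {x y a : PSLtwo F} (ha : IsUnip a) (ha1 : a ≠ 1) (hx : x * a * x⁻¹ ∈ torus a)
    (hy : y * a * y⁻¹ ∈ torus a) : y ∈ solub x := by
  have hle : Subgroup.closure ({x, y} : Set (PSLtwo F)) ≤
      Subgroup.normalizer ((torus a : Subgroup (PSLtwo F)) : Set (PSLtwo F)) := by
    rw [Subgroup.closure_le, Set.insert_subset_iff, Set.singleton_subset_iff]
    exact ⟨(mem_normalizer_torus_iff ha1).2 hx, (mem_normalizer_torus_iff ha1).2 hy⟩
  refine isSolvable_of_comm_mem (T := torus a) (fun g hg k hk => ?_) fun g hg k hk => torus_comm ha1 hg hk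
  exact commutator_mem_torus_unip ha ha1 ((mem_normalizer_torus_iff ha1).1 (hle hg))
    ((mem_normalizer_torus_iff ha1).1 (hle hk))

theorem torus_solub {x y : PSLtwo F} (hx : x ≠ 1) (hy : y * x * y⁻¹ ∈ torus x) : y ∈ solub x :=
  solvable_gen (torus x) (fun _ ha _ hb => torus_comm hx ha hb) (mem_torus_self x)
    ((mem_normalizer_torus_iff hx).2 hy)

theorem mem_normalizer_of {x a y : PSLtwo F} (hx : x ≠ 1) (ha : a ≠ 1) (hxa : x ∈ torus a)
    (hy : y * a * y⁻¹ ∈ torus a) : y * x * y⁻¹ ∈ torus x := by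
  rw [← mem_normalizer_torus_iff hx, torus_eq_of_mem ha hxa hx, mem_normalizer_torus_iff ha]
  exact hy

theorem mem_solub_semi {x : PSLtwo F} (hx : IsSemi x) (hx2 : x * x ≠ 1) (hx12 : (2 : F) ≠ 0 → x ^ 12 ≠ 1)
    {y : PSLtwo F} : y ∈ solub x ↔ y * x * y⁻¹ ∈ torus x ∨
      ∃ a, IsUnip a ∧ a ≠ 1 ∧ x * a * x⁻¹ ∈ torus a ∧ y * a * y⁻¹ ∈ torus a := by
  refine ⟨fun hs => ?_, ?_⟩
  · have hxm : x ∈ Subgroup.closure ({x, y} : Set (PSLtwo F)) := Subgroup.subset_closure (Set.mem_insert _ _)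
    have hym : y ∈ Subgroup.closure ({x, y} : Set (PSLtwo F)) :=
      Subgroup.subset_closure (Set.mem_insert_of_mem _ rfl)
    rcases solvable_cases hs (closure_ne_bot hx.ne_one) with ⟨a, ha, hN⟩ | ⟨a, ha, ha1, hN⟩ | ⟨h2, a, b, hP⟩
    · left
      rcases normalizer_torus_semi ha (hN x hxm) with e | e
      · exact mem_normalizer_of hx.ne_one ha.ne_one e (hN y hym)
      · exact absurd e.2.1 hx2
    · exact Or.inr ⟨a, ha, ha1, hN x hxm, hN y hym⟩
    · exact absurd (pow_twelve h2 hP hxm) (hx12 h2)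
  · rintro (h | ⟨a, ha, ha1, h1, h2⟩)
    · exact torus_solub hx.ne_one h
    · exact borel_solub ha ha1 h1 h2

theorem unip_mem_torus {x a : PSLtwo F} (hx : IsUnip x) (ha : IsUnip a) (ha1 : a ≠ 1)
    (h : x * a * x⁻¹ ∈ torus a) : x ∈ torus a := by
  obtain ⟨g, rfl, ht⟩ := ha
  obtain ⟨u, rfl, hu⟩ := hx
  obtain ⟨k, c, hk⟩ := exists_conj_upper ht
  have hc : c ≠ 0 := by
    rintro rfl
    rw [upper_zero] at hk
    exact ha1 (by rw [conj_eq_one_iff.1 hk, map_one])
  rw [← map_inv, ← map_mul, ← map_mul, proj_mem_torus_iff, ← mem_centralizer_conj_iff (n := k), hk] at h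
  rw [proj_mem_torus_iff, ← mem_centralizer_conj_iff (n := k), hk, centralizer_upper_iff hc]
  have h10 : (k * u * k⁻¹) 1 0 = 0 := (normalizer_upper_iff hc).1 (by
    rw [← hk] at h ⊢
    convert h using 1
    group)
  refine ⟨h10, ?_⟩
  have hd := det_entries (k * u * k⁻¹)
  have htr : (k * u * k⁻¹) 0 0 + (k * u * k⁻¹) 1 1 = 2 := (tr_conj u k).trans hu
  rw [h10, mul_zero, sub_zero] at hd
  have h00 : ((k * u * k⁻¹) 0 0 - 1) ^ 2 = 0 := by linear_combination (k * u * k⁻¹) 0 0 * htr - hd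
  have := sub_eq_zero.1 ((pow_eq_zero_iff two_ne_zero).1 h00)
  linear_combination 2 * this - htr

theorem unip_not_mem_semi {x a : PSLtwo F} (hx : IsUnip x) (hx1 : x ≠ 1) (ha : IsSemi a) : x ∉ torus a :=
  fun hm => not_semi_of_unip hx ((isSemiMember_top ha).2 x hm hx1)

theorem elliptic_not_borel {g : SLtwo F} (hg : IsElliptic g) {a : PSLtwo F} (ha : IsUnip a) (ha1 : a ≠ 1) :
    proj g * a * (proj g)⁻¹ ∉ torus a := by
  intro h
  obtain ⟨t, rfl, ht⟩ := ha
  obtain ⟨k, c, hk⟩ := exists_conj_upper ht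
  have hc : c ≠ 0 := by
    rintro rfl
    rw [upper_zero] at hk
    exact ha1 (by rw [conj_eq_one_iff.1 hk, map_one])
  rw [← map_inv, ← map_mul, ← map_mul, proj_mem_torus_iff, ← mem_centralizer_conj_iff (n := k), hk] at h
  have h10 : (k * g * k⁻¹) 1 0 = 0 := (normalizer_upper_iff hc).1 (by
    rw [← hk] at h ⊢
    convert h using 1
    group)
  have hd := det_entries (k * g * k⁻¹)
  have htr : (k * g * k⁻¹) 0 0 + (k * g * k⁻¹) 1 1 = tr g := tr_conj g k
  rw [h10, mul_zero, sub_zero] at hd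
  exact hg ((k * g * k⁻¹) 0 0) (by linear_combination (k * g * k⁻¹) 0 0 * htr - hd)

theorem card_preimage (S : Set (PSLtwo F)) :
    Nat.card {g : SLtwo F // proj g ∈ S} = Nat.gcd 2 (Fintype.card F - 1) * Nat.card S := by
  rw [← card_center (F := F), ← Nat.card_prod]
  exact Nat.card_congr (QuotientGroup.preimageMkEquivSubgroupProdSet (Subgroup.center (SLtwo F)) S)

theorem card_solub_elliptic {g : SLtwo F} (hg : IsElliptic g) (hx2 : proj g * proj g ≠ 1)
    (hx12 : (2 : F) ≠ 0 → proj g ^ 12 ≠ 1) :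
    Nat.card (solub (proj g)) = 2 * Nat.card (torus (proj g)) := by
  have hs : IsSemi (proj g) := ⟨g, rfl, Or.inl hg⟩
  rw [← normalizer_torus_card hs]
  refine Nat.card_congr (Equiv.subtypeEquivRight fun y => ?_)
  show y ∈ solub (proj g) ↔ y ∈ Subgroup.normalizer ((torus (proj g) : Subgroup (PSLtwo F)) : Set (PSLtwo F))
  rw [mem_normalizer_torus_iff hs.ne_one, mem_solub_semi hs hx2 hx12]
  refine ⟨fun h => h.elim id fun ⟨a, ha, ha1, h1, _⟩ => absurd h1 (elliptic_not_borel hg ha ha1), Or.inl⟩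

end Cfsg.Agent.Lib.SL2Solubilizer
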