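import Cfsg.Agent.Lib.SL2Solubilizer.Criterion

/-! The solubilizer of a split semisimple element of `PSL₂(q)`. -/

set_option autoImplicit false

namespace Cfsg.Agent.Lib.SL2Solubilizer

open Cfsg.Agent.Lib.SL2 Cfsg.Agent.Lib.SL2.OddProductGraph

variable {F : Type*} [Field F] [Fintype F]

theorem card_or {α : Type*} [Finite α] {P Q : α → Prop} (hd : ∀ a, P a → ¬ Q a) :
    Nat.card {a // P a ∨ Q a} = Nat.card {a // P a} + Nat.card {a // Q a} := by
  classical
  rw [← Nat.card_sum]
  exact Nat.card_congr (subtypeOrEquiv P Q (by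
    rw [Pi.disjoint_iff]
    exact fun a => Prop.disjoint_iff.2 (by simpa [imp_iff_not_or, not_and_or] using hd a)))

theorem diag_conj_entries (u : Fˣ) (y : SLtwo F) :
    (y * diag u * y⁻¹) 0 1 = y 0 0 * y 0 1 * ((u⁻¹ : Fˣ) - (u : F)) ∧
    (y * diag u * y⁻¹) 1 0 = y 1 1 * y 1 0 * ((u : F) - (u⁻¹ : Fˣ)) := by
  constructor <;>
    · simp only [mul_01, mul_10, mul_00, mul_11, inv_00, inv_01, inv_10, inv_11]
      simp
      ring

theorem lower_comm_iff {c : F} (hc : c ≠ 0) {h : SLtwo F} :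
    h ∈ Subgroup.centralizer ({lower c} : Set (SLtwo F)) ↔ h 0 1 = 0 ∧ h 0 0 = h 1 1 := by
  rw [Subgroup.mem_centralizer_singleton_iff]
  constructor
  · intro e
    have e00 := congrArg (fun x : SLtwo F => x 0 0) e
    have e10 := congrArg (fun x : SLtwo F => x 1 0) e
    simp only [mul_00, mul_10, lower_00, lower_01, lower_10, lower_11] at e00 e10
    refine ⟨mul_left_cancel₀ hc (by linear_combination e00), mul_left_cancel₀ hc ?_⟩
    linear_combination -e10
  · rintro ⟨h01, h00⟩
    apply ext_entries <;> simp only [mul_00, mul_01, mul_10, mul_11, lower_00, lower_01, lower_10, lower_11, h01, h00] <;> ring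

theorem lower_normalizer_iff {c : F} (hc : c ≠ 0) {n : SLtwo F} :
    n * lower c * n⁻¹ ∈ Subgroup.centralizer ({lower c} : Set (SLtwo F)) ↔ n 0 1 = 0 := by
  rw [lower_comm_iff hc]
  simp only [mul_00, mul_01, mul_10, mul_11, inv_00, inv_01, inv_10, inv_11]
  simp only [lower_00, lower_01, lower_10, lower_11]
  constructor
  · rintro ⟨h, -⟩
    exact (pow_eq_zero_iff two_ne_zero).1 (mul_left_cancel₀ hc (show c * n 0 1 ^ 2 = c * 0 by
      linear_combination -h))
  · intro h
    rw [h]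
    refine ⟨by ring, by ring⟩

theorem mem_solub_diag {u : Fˣ} (hu1 : (u : F) * u ≠ 1) (hu2 : (u : F) * u ≠ -1)
    (h12 : (2 : F) ≠ 0 → proj (diag u) ^ 12 ≠ 1) (y : SLtwo F) :
    proj y ∈ solub (proj (diag u)) ↔ y 1 0 = 0 ∨ y 0 1 = 0 ∨ (y 0 0 = 0 ∧ y 1 1 = 0) := by
  have hne : (u : F) - (u⁻¹ : Fˣ) ≠ 0 := by
    intro e
    apply hu1
    rw [sub_eq_zero] at e
    nth_rw 2 [e]
    simp
  have htr : tr (diag u) ≠ 2 ∧ tr (diag u) ≠ -2 := by
    have ht : tr (diag u) = (u : F) + (u⁻¹ : Fˣ) := by simp [tr]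
    have hm : (u : F) * (u⁻¹ : Fˣ) = 1 := by rw [← Units.val_mul, mul_inv_cancel, Units.val_one]
    rw [ht]
    constructor <;> intro e <;> apply hne
    · have : ((u : F) - (u⁻¹ : Fˣ)) ^ 2 = 0 := by linear_combination ((u : F) + (u⁻¹ : Fˣ) + 2) * e - 4 * hm
      exact (pow_eq_zero_iff two_ne_zero).1 this
    · have : ((u : F) - (u⁻¹ : Fˣ)) ^ 2 = 0 := by linear_combination ((u : F) + (u⁻¹ : Fˣ) - 2) * e - 4 * hm
      exact (pow_eq_zero_iff two_ne_zero).1 this
  have hs : IsSemi (proj (diag u)) := ⟨_, rfl, elliptic_or_split_of_tr htr⟩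
  have hx2 : proj (diag u) * proj (diag u) ≠ 1 := by
    rw [← map_mul, diag_mul, Ne, proj_eq_one_iff, mem_center_iff_eq]
    rintro (e | e) <;> have e00 := congrArg (fun z : SLtwo F => z 0 0) e <;> simp at e00
    · exact hu1 e00
    · exact hu2 e00
  rw [mem_solub_semi hs hx2 h12]
  have hcent : ∀ k : SLtwo F, k ∈ Subgroup.centralizer ({diag u} : Set (SLtwo F)) ↔ k 0 1 = 0 ∧ k 1 0 = 0 := by
    intro k
    rw [Subgroup.mem_centralizer_singleton_iff]
    constructor
    · intro e
      have e01 := congrArg (fun x : SLtwo F => x 0 1) e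
      have e10 := congrArg (fun x : SLtwo F => x 1 0) e
      simp only [mul_01, mul_10] at e01 e10
      simp only [diag_00, diag_01, diag_10, diag_11, mul_zero, zero_mul, add_zero, zero_add] at e01 e10
      exact ⟨(mul_eq_zero.1 (show ((u : F) - (u⁻¹ : Fˣ)) * k 0 1 = 0 by linear_combination -e01)).resolve_left hne,
        (mul_eq_zero.1 (show ((u : F) - (u⁻¹ : Fˣ)) * k 1 0 = 0 by linear_combination e10)).resolve_left hne⟩
    · rintro ⟨h01, h10⟩
      apply ext_entries <;> simp only [mul_00, mul_01, mul_10, mul_11, diag_00, diag_01, diag_10, diag_11, h01, h10] <;> ring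
  constructor
  · rintro (h | ⟨a, ha, ha1, hxa, hya⟩)
    · rw [← map_inv, ← map_mul, ← map_mul, proj_mem_torus_iff, hcent, (diag_conj_entries u y).1,
        (diag_conj_entries u y).2] at h
      obtain ⟨h1, h2⟩ := h
      have e1 := (mul_eq_zero.1 h1).resolve_right (fun e => hne (by linear_combination -e))
      have e2 := (mul_eq_zero.1 h2).resolve_right hne
      rcases mul_eq_zero.1 e1 with e | e
      · rcases mul_eq_zero.1 e2 with e' | e'
        · exact Or.inr (Or.inr ⟨e, e'⟩)
        · exact Or.inl e'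
      · exact Or.inr (Or.inl e)
    · obtain ⟨A, rfl, ht⟩ := ha
      rw [← map_inv, ← map_mul, ← map_mul, proj_mem_torus_iff] at hxa hya
      have e00 := congrArg (fun x : SLtwo F => x 0 0) (Subgroup.mem_centralizer_singleton_iff.1 hxa)
      simp only [mul_00, mul_01, mul_10, mul_11, inv_00, inv_01, inv_10, inv_11] at e00
      simp only [diag_00, diag_01, diag_10, diag_11] at e00
      have hm : (u : F) * (u⁻¹ : Fˣ) = 1 := by rw [← Units.val_mul, mul_inv_cancel, Units.val_one]
      have hbc : A 0 1 * A 1 0 = 0 := by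
        have h4 : ((u : F) * u - (u⁻¹ : Fˣ) * (u⁻¹ : Fˣ)) ≠ 0 := by
          intro e
          have : ((u : F) * u - 1) * ((u : F) * u + 1) = 0 := by
            linear_combination ((u : F) * u) * e + ((u : F) * (u⁻¹ : Fˣ) + 1) * hm
          rcases mul_eq_zero.1 this with z | z
          · exact hu1 (sub_eq_zero.1 z)
          · exact hu2 (eq_neg_of_add_eq_zero_left z)
        exact (mul_eq_zero.1 (show ((u : F) * u - (u⁻¹ : Fˣ) * (u⁻¹ : Fˣ)) * (A 0 1 * A 1 0) = 0 by
          linear_combination e00)).resolve_left h4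
      have hd := det_entries A
      simp only [tr] at ht
      have hdiag : A 0 0 = 1 ∧ A 1 1 = 1 := by
        rw [hbc, sub_zero] at hd
        have h00 := sub_eq_zero.1 ((pow_eq_zero_iff two_ne_zero).1
          (show (A 0 0 - 1) ^ 2 = 0 by linear_combination A 0 0 * ht - hd))
        exact ⟨h00, by linear_combination ht - h00⟩
      rcases mul_eq_zero.1 hbc with hb | hc
      · have hA : A = lower (A 1 0) := ext_entries hdiag.1 hb rfl hdiag.2
        have hc : A 1 0 ≠ 0 := fun e => ha1 (by rw [hA, e, lower_zero, map_one])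
        rw [hA] at hya
        exact Or.inr (Or.inl ((lower_normalizer_iff hc).1 hya))
      · have hA : A = upper (A 0 1) := ext_entries hdiag.1 rfl hc hdiag.2
        have hb : A 0 1 ≠ 0 := fun e => ha1 (by rw [hA, e, upper_zero, map_one])
        rw [hA] at hya
        exact Or.inl ((normalizer_upper_iff hb).1 hya)
  · have hlow : proj (lower (1 : F)) ≠ 1 := by
      rw [Ne, proj_eq_one_iff, mem_center_iff_entries]
      simp
    rintro (h | h | ⟨h00, h11⟩)
    · refine Or.inr ⟨_, isUnip_upper 1, proj_upper_one_ne, ?_, ?_⟩ <;>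
        rw [← map_inv, ← map_mul, ← map_mul, proj_mem_torus_iff, normalizer_upper_iff one_ne_zero]
      · simp
      · exact h
    · refine Or.inr ⟨_, ⟨lower 1, rfl, by simp [tr]; norm_num⟩, hlow, ?_, ?_⟩ <;>
        rw [← map_inv, ← map_mul, ← map_mul, proj_mem_torus_iff, lower_normalizer_iff one_ne_zero]
      · simp
      · exact h
    · left
      rw [← map_inv, ← map_mul, ← map_mul, proj_mem_torus_iff, hcent, (diag_conj_entries u y).1,
        (diag_conj_entries u y).2, h00, h11]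
      simp

theorem card_solub_diag {u : Fˣ} (hu1 : (u : F) * u ≠ 1) (hu2 : (u : F) * u ≠ -1)
    (h12 : (2 : F) ≠ 0 → proj (diag u) ^ 12 ≠ 1) :
    Nat.gcd 2 (Fintype.card F - 1) * Nat.card (solub (proj (diag u))) =
      2 * (Fintype.card F * (Fintype.card F - 1)) := by
  rw [← card_preimage, Nat.card_congr (Equiv.subtypeEquivRight fun y => (mem_solub_diag hu1 hu2 h12 y).trans
    (show _ ↔ (y 1 0 = 0 ∨ (y 1 0 ≠ 0 ∧ (y 0 1 = 0 ∨ (y 0 0 = 0 ∧ y 1 1 = 0)))) from
      ⟨fun h => (em (y 1 0 = 0)).imp id fun hn => ⟨hn, h.resolve_left hn⟩, fun h => h.imp id And.right⟩)),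
    card_or fun y h1 h2 => h2.1 h1]
  let f : Fˣ × (Fˣ ⊕ Unit) → {y : SLtwo F // y 1 0 ≠ 0 ∧ (y 0 1 = 0 ∨ (y 0 0 = 0 ∧ y 1 1 = 0))} := fun p =>
    match p with
    | (c, Sum.inl a) => ⟨ofEntries (a : F) 0 c (a⁻¹ : Fˣ) (by simp), by simp [ofEntries]⟩
    | (c, Sum.inr _) => ⟨ofEntries 0 (-(c⁻¹ : Fˣ)) c 0 (by simp), by simp [ofEntries]⟩
  have hf : Function.Bijective f := by
    constructor
    · rintro ⟨c, a | a⟩ ⟨d, b | b⟩ e <;>
        have e10 := congrArg (fun z => (z : SLtwo F) 1 0) (congrArg Subtype.val e) <;>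
        have e00 := congrArg (fun z => (z : SLtwo F) 0 0) (congrArg Subtype.val e) <;>
        simp [f, ofEntries] at e10 e00
      · rw [Units.ext e10, Units.ext e00]
      · exact absurd e00.symm b.ne_zero
      · rw [Units.ext e10]
    · rintro ⟨y, hc, hy⟩
      have hd := det_entries y
      rcases hy with hb | ⟨ha, hd'⟩
      · rw [hb, zero_mul, sub_zero] at hd
        have ha : y 0 0 ≠ 0 := left_ne_zero_of_mul_eq_one hd
        refine ⟨(Units.mk0 _ hc, Sum.inl (Units.mk0 _ ha)), Subtype.ext (ext_entries ?_ ?_ ?_ ?_)⟩ <;>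
          simp [f, ofEntries, hb]
        exact (eq_inv_of_mul_eq_one_left (by rw [mul_comm]; exact hd)).symm
      · rw [ha, zero_mul, zero_sub] at hd
        refine ⟨(Units.mk0 _ hc, Sum.inr ()), Subtype.ext (ext_entries ?_ ?_ ?_ ?_)⟩ <;>
          simp [f, ofEntries, ha, hd']
        rw [neg_eq_iff_eq_neg, inv_eq_of_mul_eq_one_left (show -y 0 1 * y 1 0 = 1 by linear_combination hd)]
  rw [show Nat.card {y : SLtwo F // y 1 0 = 0} = Nat.card (borelSL (F := F)) from rfl, card_borelSL,
    ← Nat.card_congr (Equiv.ofBijective f hf), Nat.card_prod, Nat.card_sum, Nat.card_unique (α := Unit),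
    Nat.card_units, Nat.card_eq_fintype_card,
    Nat.sub_add_cancel (Fintype.card_pos (α := F))]
  ring

theorem exists_conj_diag {g : SLtwo F} (hg : IsSplit g) :
    ∃ (k : SLtwo F) (u : Fˣ), k * g * k⁻¹ = diag u := by
  obtain ⟨l, m, hlm, hd, -⟩ := isSplit_roots hg
  have hl : l ≠ 0 := left_ne_zero_of_mul_eq_one hd.symm
  have ht : tr g = tr (diag (Units.mk0 l hl)) := by
    simp [tr]
    rw [inv_eq_of_mul_eq_one_right hd.symm]
    exact hlm
  obtain ⟨k, hk⟩ := isConj_iff.1 (isConj_of_tr_eq (Or.inr hg) ht)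
  exact ⟨k, _, hk⟩

theorem card_solub_split {g : SLtwo F} (hg : IsSplit g) (hx2 : proj g * proj g ≠ 1)
    (hx12 : (2 : F) ≠ 0 → proj g ^ 12 ≠ 1) :
    Nat.gcd 2 (Fintype.card F - 1) * Nat.card (solub (proj g)) =
      2 * (Fintype.card F * (Fintype.card F - 1)) := by
  obtain ⟨k, u, hk⟩ := exists_conj_diag hg
  have he : proj (diag u) = proj k * proj g * (proj k)⁻¹ := by rw [← hk, map_mul, map_mul, map_inv]
  rw [← card_solub_conj (proj k) (proj g), ← he]
  have hsq : proj (diag u) * proj (diag u) ≠ 1 := by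
    rw [he, show proj k * proj g * (proj k)⁻¹ * (proj k * proj g * (proj k)⁻¹) =
      proj k * (proj g * proj g) * (proj k)⁻¹ by group]
    exact fun e => hx2 (conj_eq_one_iff.1 e)
  refine card_solub_diag ?_ ?_ (fun h2 e => hx12 h2 ?_)
  · intro e
    apply hsq
    rw [← map_mul, diag_mul, show u * u = 1 from Units.ext e, diag_one, map_one]
  · intro e
    apply hsq
    rw [← map_mul, diag_mul, show diag (u * u) = -1 from ext_entries (by simp [e])
      (by simp) (by simp) (by
        simp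
        rw [← mul_inv, e, inv_neg, inv_one]), proj_neg, map_one]
  · rw [he, conj_pow] at e
    exact conj_eq_one_iff.1 e

end Cfsg.Agent.Lib.SL2Solubilizer
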