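import Cfsg.Agent.Lib.SL2Solubilizer.Split

/-! Types of elements of `PSL₂(q)` by their orders. -/

set_option autoImplicit false

namespace Cfsg.Agent.Lib.SL2Solubilizer

open Cfsg.Agent.Lib.SL2 Cfsg.Agent.Lib.SL2.OddProductGraph

variable {F : Type*} [Field F] [Fintype F]

theorem sq_one_of_tr_zero {g : SLtwo F} (hg : tr g = 0) : proj g * proj g = 1 := by
  have hgg : g * g = -1 := by
    refine Subtype.ext ?_
    have ch := cayley_hamilton g
    rw [hg, zero_smul, zero_sub] at ch
    simpa using ch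
  rw [← map_mul, hgg, proj_neg, map_one]

theorem tr_zero_or_center {g : SLtwo F} (hg : proj g * proj g = 1) :
    tr g = 0 ∨ g ∈ Subgroup.center (SLtwo F) := by
  by_cases h1 : proj g = 1
  · exact Or.inr (proj_eq_one_iff.1 h1)
  · exact Or.inl ((tr_of_pow h1).1 hg)

theorem not_unip_of_coprime (p : ℕ) [Fact p.Prime] [CharP F p] {x : PSLtwo F} (hx : x ≠ 1) {n : ℕ}
    (hn : orderOf x ∣ n) (hco : ¬ p ∣ n) : ¬ IsUnip x := fun hu =>
  hx (orderOf_eq_one_iff.1 (Nat.eq_one_of_dvd_coprimes
    ((Fact.out : p.Prime).coprime_iff_not_dvd.2 hco) (orderOf_dvd_of_unip p hu) hn))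

theorem orderOf_dvd_torus (x : PSLtwo F) : orderOf x ∣ Nat.card (torus x) := by
  have h := orderOf_dvd_natCard (⟨x, mem_torus_self x⟩ : torus x)
  rwa [Subgroup.orderOf_mk] at h

theorem split_of_order {x : PSLtwo F} (hs : IsSemi x) (h : orderOf x ∣ Fintype.card F - 1)
    (h2 : x * x ≠ 1) : ∃ g, proj g = x ∧ IsSplit g := by
  obtain ⟨g, rfl, hg | hg⟩ := hs
  · exfalso
    have h1 : orderOf (proj g) ∣ Fintype.card F + 1 := by
      refine (orderOf_dvd_torus _).trans ?_
      rw [card_torus_elliptic hg]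
      exact Nat.div_dvd_of_dvd (by
        have := card_torus_mul (g := g)
        rw [card_centralizer_elliptic hg] at this
        exact Dvd.intro_left _ this)
    have hpos : 1 ≤ Fintype.card F := Fintype.card_pos
    have hd := Nat.dvd_sub h1 h
    rw [show Fintype.card F + 1 - (Fintype.card F - 1) = 2 by omega] at hd
    exact h2 (by rw [← sq]; exact orderOf_dvd_iff_pow_eq_one.1 hd)
  · exact ⟨g, rfl, hg⟩

theorem elliptic_of_order {x : PSLtwo F} (hs : IsSemi x) (h : orderOf x ∣ Fintype.card F + 1)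
    (h2 : x * x ≠ 1) : ∃ g, proj g = x ∧ IsElliptic g := by
  obtain ⟨g, rfl, hg | hg⟩ := hs
  · exact ⟨g, rfl, hg⟩
  · exfalso
    have h1 : orderOf (proj g) ∣ Fintype.card F - 1 := by
      refine (orderOf_dvd_torus _).trans ?_
      rw [card_torus_split hg]
      exact Nat.div_dvd_of_dvd (by
        have := card_torus_mul (g := g)
        rw [card_centralizer_split hg] at this
        exact Dvd.intro_left _ this)
    have hpos : 1 ≤ Fintype.card F := Fintype.card_pos
    have hd := Nat.dvd_sub h h1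
    rw [show Fintype.card F + 1 - (Fintype.card F - 1) = 2 by omega] at hd
    exact h2 (by rw [← sq]; exact orderOf_dvd_iff_pow_eq_one.1 hd)

end Cfsg.Agent.Lib.SL2Solubilizer
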